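import Cfsg.Agent.Lib.Helper6.GolayBSGS

/-!
# List encodings of permutations of the 24 points and image masks given by functions

`enc g` is the list of the indices of the images of the 24 points under `g`; `fmask f n` is the image of the mask `n`
under a map of indices `f`.  An element of `M24` maps code words to code words, which on masks reads
`inCode (lmask (enc g) n) = true`; conversely a permutation given by a list which maps the twelve basis words into the
code lies in `M24`.
-/

set_option autoImplicit false

namespace Cfsg.Agent.Lib.Helper8.M22Idx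

open Cfsg Cfsg.Agent.Lib.Helper6.Golay

/-- the list encoding of a permutation -/
def enc (g : Equiv.Perm GolayPt) : List ℕ := (List.range 24).map (fun i => idx (g (pt i)))

theorem enc_length (g : Equiv.Perm GolayPt) : (enc g).length = 24 := by simp [enc]

theorem enc_getD (g : Equiv.Perm GolayPt) {i : ℕ} (hi : i < 24) : (enc g).getD i 0 = idx (g (pt i)) := by
  have h : i < (enc g).length := by rw [enc_length]; exact hi
  rw [List.getD_eq_getElem _ _ h]
  simp [enc]

theorem wf_enc (g : Equiv.Perm GolayPt) : wf (enc g) = true := by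
  rw [wf_iff]
  refine ⟨enc_length g, ?_⟩
  intro v hv
  rw [enc, List.mem_map] at hv
  obtain ⟨i, _, rfl⟩ := hv
  exact idx_lt _

theorem lfun_enc (g : Equiv.Perm GolayPt) : ⇑g = lfun (enc g) := by
  funext p
  rw [lfun, enc_getD g (idx_lt p), pt_idx, pt_idx]

theorem enc_injective : Function.Injective enc := by
  intro g h hgh
  apply Equiv.ext
  intro p
  have h1 := congrFun (lfun_enc g) p
  have h2 := congrFun (lfun_enc h) p
  rw [h1, h2, hgh]

/-- image of the mask `n` under the map of indices `f` -/
def fmask (f : ℕ → ℕ) (n : ℕ) : ℕ :=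
  (List.range 24).foldr (fun i acc => if n.testBit i then acc ||| 2 ^ (f i) else acc) 0

theorem lmask_eq_fmask (l : List ℕ) (n : ℕ) : lmask l n = fmask (fun i => l.getD i 0) n := rfl

theorem fmask_congr {f f' : ℕ → ℕ} {n : ℕ} (h : ∀ i < 24, n.testBit i = true → f i = f' i) :
    fmask f n = fmask f' n := by
  unfold fmask
  apply List.foldr_ext
  intro i hi acc
  rw [List.mem_range] at hi
  by_cases hb : n.testBit i = true
  · rw [if_pos hb, if_pos hb, h i hi hb]
  · rw [if_neg hb, if_neg hb]

/-- an element of `M24` maps code words to code words -/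
theorem inCode_lmask_enc {g : Equiv.Perm GolayPt} (hg : g ∈ M24) {n : ℕ} (hn : inCode n = true) :
    inCode (lmask (enc g) n) = true := by
  have hlt := lt_of_inCode hn
  have h1 : dec n ∈ golayCode := (dec_mem_golayCode_iff n hlt).2 hn
  have h2 := forall_of_mem_M24 g hg _ h1
  have h3 : dec n ∘ g.symm = dec (lmask (enc g) n) := by
    apply support₂_injective
    rw [← smul_support₂, support₂_dec, support₂_dec, smul_fs (wf_enc g) (lfun_enc g)]
  rw [h3] at h2
  exact (dec_mem_golayCode_iff _ (lmask_lt _ (wf_enc g) n)).1 h2

/-- a permutation given by a list which maps the basis words into the code lies in `M24` -/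
theorem mem_M24_of_basisTest {g : Equiv.Perm GolayPt} {l : List ℕ} (hl : wf l = true) (h : ⇑g = lfun l)
    (ht : (basis.all fun b => inCode (lmask l b)) = true) : g ∈ M24 := by
  apply mem_M24_of_forall
  apply golayCode_induction
  · exact Submodule.zero_mem _
  · intro v w hv hw
    rw [comp_symm_add]; exact Submodule.add_mem _ hv hw
  · intro b hb
    have h1 := (List.all_eq_true.1 ht) b hb
    have h3 : dec b ∘ g.symm = dec (lmask l b) := by
      apply support₂_injective
      rw [← smul_support₂, support₂_dec, support₂_dec, smul_fs hl h]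
    rw [h3]
    exact (dec_mem_golayCode_iff _ (lmask_lt _ hl b)).2 h1

/-- the words of the basis are code words -/
theorem inCode_basis {b : ℕ} (hb : b ∈ basis) : inCode b = true := (basis_octads b hb).1

/-- a permutation normalising `z` with exponent `k` -/
theorem comm_pow {g z : Equiv.Perm GolayPt} {k : ℕ} (h : g * z = z ^ k * g) (j : ℕ) :
    g * z ^ j = (z ^ k) ^ j * g := by
  induction j with
  | zero => simp
  | succ j ih => rw [pow_succ, ← mul_assoc, ih, mul_assoc, h, ← mul_assoc, ← pow_succ]

/-- the exponent of a normalising element, as a natural number below the order -/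
theorem exists_exponent {g z : Equiv.Perm GolayPt} {p : ℕ} (hp : 1 < p) (hz : orderOf z = p)
    (h : g * z * g⁻¹ ∈ Subgroup.zpowers z) : ∃ k, 0 < k ∧ k < p ∧ g * z = z ^ k * g := by
  obtain ⟨k, hk⟩ := Subgroup.mem_zpowers_iff.1 h
  have hp0 : (0 : ℤ) < p := by exact_mod_cast (by omega : 0 < p)
  have h1 : z ^ (k % (p : ℤ)) = g * z * g⁻¹ := by
    rw [← hk, ← hz]; exact zpow_mod_orderOf z k
  have h2 : 0 ≤ k % (p : ℤ) := Int.emod_nonneg _ hp0.ne'
  have h3 : k % (p : ℤ) < p := Int.emod_lt_of_pos _ hp0
  obtain ⟨m, hm⟩ := Int.eq_ofNat_of_zero_le h2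
  rw [hm, zpow_natCast] at h1
  have hm3 : m < p := by rw [hm] at h3; exact_mod_cast h3
  have hcomm : g * z = z ^ m * g := by rw [h1]; group
  refine ⟨m, ?_, hm3, hcomm⟩
  rcases Nat.eq_zero_or_pos m with h0 | h0
  · exfalso
    rw [h0, pow_zero, one_mul] at hcomm
    have hz1 : z = 1 := by
      have := mul_left_cancel (a := g) (b := z) (c := 1) (by rw [mul_one]; exact hcomm)
      exact this
    rw [hz1, orderOf_one] at hz
    omega
  · exact h0

end Cfsg.Agent.Lib.Helper8.M22Idx
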