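import Mathlib

/-!
# Counting with the normaliser of a subgroup of prime order

If `z` has prime order `p` in a finite subgroup `K` whose order is not divisible by `p ^ 2`, then the elements of `K`
normalising `⟨z⟩` form a subgroup `N` with `|K| = |N| * n`, `n ≡ 1 (mod p)` and `p ∣ |N|` (Sylow's theorem).
Two subgroups of order `p` of a finite group whose order is not divisible by `p ^ 2` are conjugate.
-/

set_option autoImplicit false

namespace Cfsg.Agent.Lib.Helper8.M22Idx

variable {Γ : Type*} [Group Γ]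

theorem factorization_eq_one_of {m p : ℕ} (hp : p.Prime) (hm : m ≠ 0) (h1 : p ∣ m) (h2 : ¬ p ^ 2 ∣ m) :
    m.factorization p = 1 := by
  have h3 : 1 ≤ m.factorization p := by
    have := (hp.pow_dvd_iff_le_factorization (k := 1) hm).1 (by simpa using h1)
    exact this
  have h4 : ¬ 2 ≤ m.factorization p := fun h => h2 ((hp.pow_dvd_iff_le_factorization hm).2 h)
  omega

/-- Sylow counting for a subgroup of prime order `p` in a group of order not divisible by `p ^ 2` -/
theorem exists_normalizer_count (K : Subgroup Γ) [Finite K] (z : Γ) (hz : z ∈ K) (p : ℕ) [Fact p.Prime]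
    (hord : orderOf z = p) (hp2 : ¬ p ^ 2 ∣ Nat.card K) :
    ∃ (N : Subgroup Γ) (n : ℕ), N ≤ K ∧ (∀ g ∈ N, g * z * g⁻¹ ∈ Subgroup.zpowers z) ∧
      Nat.card K = Nat.card N * n ∧ n ≡ 1 [MOD p] ∧ p ∣ Nat.card N := by
  have hp : p.Prime := Fact.out
  set z' : K := ⟨z, hz⟩ with hz'
  have hord' : orderOf z' = p := by
    rw [← hord]
    exact Subgroup.orderOf_mk z hz
  have hK0 : Nat.card K ≠ 0 := Nat.card_pos.ne'
  have hpK : p ∣ Nat.card K := hord' ▸ orderOf_dvd_natCard z'
  have hfac : (Nat.card K).factorization p = 1 := factorization_eq_one_of hp hK0 hpK hp2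
  have hcard : Nat.card (Subgroup.zpowers z') = p ^ (Nat.card K).factorization p := by
    rw [hfac, pow_one, Nat.card_zpowers, hord']
  let Q : Sylow p K := Sylow.ofCard (Subgroup.zpowers z') hcard
  have hQ : (Q : Subgroup K) = Subgroup.zpowers z' := Sylow.coe_ofCard _ hcard
  have hidx : Nat.card (Sylow p K) = (Subgroup.normalizer ((Q : Subgroup K) : Set K)).index :=
    Sylow.card_eq_index_normalizer Q
  have hmod : Nat.card (Sylow p K) ≡ 1 [MOD p] := card_sylow_modEq_one p K
  set NK : Subgroup K := Subgroup.normalizer ((Q : Subgroup K) : Set K) with hNK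
  refine ⟨NK.map K.subtype, NK.index, ?_, ?_, ?_, ?_, ?_⟩
  · rintro _ ⟨g, _, rfl⟩
    exact g.2
  · rintro _ ⟨g, hg, rfl⟩
    have h1 : g * z' * g⁻¹ ∈ (Q : Subgroup K) := by
      have := (Subgroup.mem_normalizer_iff.1 hg z').1 (by rw [hQ]; exact Subgroup.mem_zpowers z')
      exact this
    rw [hQ] at h1
    obtain ⟨k, hk⟩ := Subgroup.mem_zpowers_iff.1 h1
    refine Subgroup.mem_zpowers_iff.2 ⟨k, ?_⟩
    have := congrArg (fun t : K => (t : Γ)) hk
    simpa using this
  · rw [Subgroup.card_map_of_injective K.subtype_injective, Subgroup.card_mul_index]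
  · rw [← hidx]; exact hmod
  · rw [Subgroup.card_map_of_injective K.subtype_injective]
    have hle : Subgroup.zpowers z' ≤ NK := by
      rw [hNK, hQ]
      exact Subgroup.le_normalizer
    have := Subgroup.card_dvd_of_le hle
    rwa [Nat.card_zpowers, hord'] at this

/-- two subgroups of prime order `p` of a finite group of order not divisible by `p ^ 2` are conjugate -/
theorem exists_conj_zpowers (G : Subgroup Γ) [Finite G] (p : ℕ) [Fact p.Prime] (hp2 : ¬ p ^ 2 ∣ Nat.card G)
    (a b : Γ) (ha : a ∈ G) (hb : b ∈ G) (hoa : orderOf a = p) (hob : orderOf b = p) :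
    ∃ t ∈ G, t * a * t⁻¹ ∈ Subgroup.zpowers b := by
  have hp : p.Prime := Fact.out
  set a' : G := ⟨a, ha⟩
  set b' : G := ⟨b, hb⟩
  have hoa' : orderOf a' = p := by rw [← hoa]; exact Subgroup.orderOf_mk a ha
  have hob' : orderOf b' = p := by rw [← hob]; exact Subgroup.orderOf_mk b hb
  have hG0 : Nat.card G ≠ 0 := Nat.card_pos.ne'
  have hpG : p ∣ Nat.card G := hoa' ▸ orderOf_dvd_natCard a'
  have hfac : (Nat.card G).factorization p = 1 := factorization_eq_one_of hp hG0 hpG hp2
  have hca : Nat.card (Subgroup.zpowers a') = p ^ (Nat.card G).factorization p := by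
    rw [hfac, pow_one, Nat.card_zpowers, hoa']
  have hcb : Nat.card (Subgroup.zpowers b') = p ^ (Nat.card G).factorization p := by
    rw [hfac, pow_one, Nat.card_zpowers, hob']
  let A : Sylow p G := Sylow.ofCard (Subgroup.zpowers a') hca
  let B : Sylow p G := Sylow.ofCard (Subgroup.zpowers b') hcb
  obtain ⟨t, ht⟩ := MulAction.exists_smul_eq G A B
  refine ⟨(t : Γ), t.2, ?_⟩
  have h1 : t * a' * t⁻¹ ∈ ((t • A : Sylow p G) : Subgroup G) := by
    rw [Sylow.coe_subgroup_smul]
    refine (Subgroup.mem_smul_pointwise_iff_exists _ _ _).2 ⟨a', ?_, rfl⟩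
    rw [Sylow.coe_ofCard]
    exact Subgroup.mem_zpowers a'
  rw [ht, Sylow.coe_ofCard] at h1
  obtain ⟨k, hk⟩ := Subgroup.mem_zpowers_iff.1 h1
  refine Subgroup.mem_zpowers_iff.2 ⟨k, ?_⟩
  have := congrArg (fun s : G => (s : Γ)) hk
  simpa using this

end Cfsg.Agent.Lib.Helper8.M22Idx
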