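import Cfsg.Agent.Lib.Helper8.M22Idx.NormY
import Cfsg.Agent.Lib.Helper8.M22Idx.SylowCount

/-!
# The stabiliser of two points in `M24` has no subgroup of order 2112 or 7920

A subgroup `K` of the stabiliser `G` of two points (of order 443520) whose order is 2112 or 7920 contains, after
conjugation, the element `x` of order 11.  The normaliser of `⟨x⟩` in `G` has order 55, so the number of Sylow
11-subgroups of `K` is `|K| / 11 c` with `c ≤ 5`, which is `≡ 1 (mod 11)` only for `|K| = 7920`, `c = 5`; then `K`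
contains the normaliser, hence `y` of order 5, whose normaliser in `G` has order 20, and counting Sylow 5-subgroups
`K` contains that normaliser, hence `u`; but `x * u` has order 7, which does not divide 7920.
-/

set_option autoImplicit false

namespace Cfsg.Agent.Lib.Helper8.M22Idx

open Cfsg Cfsg.Agent.Lib.Helper6.Golay Cfsg.Agent.Lib.Helper6.PermChain

/-- the stabiliser of the points `0` and `∞` -/
abbrev G0 : Subgroup (Equiv.Perm GolayPt) := fixL M24 [pt 0, pt 23]

theorem mem_G0 {g : Equiv.Perm GolayPt} : g ∈ G0 ↔ g ∈ M24 ∧ g (pt 0) = pt 0 ∧ g (pt 23) = pt 23 := by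
  rw [mem_fixL]
  simp

theorem card_G0 : Nat.card G0 = 443520 := card_fixL_pair (by decide)

theorem x_mem_G0 : x ∈ G0 := mem_G0.2 ⟨x_mem, x_fix0, x_fix23⟩

/-- a subgroup of `K` normalising `⟨x⟩` has at most 55 elements, and if it has 55 it contains `y` -/
theorem card_le_of_SX (K N : Subgroup (Equiv.Perm GolayPt)) (hK : K ≤ G0) (hN : N ≤ K)
    (hnorm : ∀ g ∈ N, g * x * g⁻¹ ∈ Subgroup.zpowers x) :
    Nat.card N ≤ 55 ∧ (Nat.card N = 55 → y ∈ K) := by
  have hsub : (N : Set (Equiv.Perm GolayPt)) ⊆ SX := by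
    intro g hg
    obtain ⟨h1, h2, h3⟩ := mem_G0.1 (hK (hN hg))
    exact ⟨h1, h2, h3, hnorm g hg⟩
  have hfin : SX.Finite := Set.toFinite _
  have hc : Nat.card N = (N : Set (Equiv.Perm GolayPt)).ncard := Nat.card_coe_set_eq _
  have hle := Set.ncard_le_ncard hsub hfin
  refine ⟨by rw [hc]; exact hle.trans ncard_SX_le, fun h55 => ?_⟩
  have heq : (N : Set (Equiv.Perm GolayPt)) = SX :=
    Set.eq_of_subset_of_ncard_le hsub (by rw [← hc, h55]; exact ncard_SX_le) hfin
  have : y ∈ (N : Set (Equiv.Perm GolayPt)) := by rw [heq]; exact y_mem_SX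
  exact hN this

/-- a subgroup of `K` normalising `⟨y⟩` has at most 20 elements, and if it has 20 it contains `u` -/
theorem card_le_of_SY (K N : Subgroup (Equiv.Perm GolayPt)) (hK : K ≤ G0) (hN : N ≤ K)
    (hnorm : ∀ g ∈ N, g * y * g⁻¹ ∈ Subgroup.zpowers y) :
    Nat.card N ≤ 20 ∧ (Nat.card N = 20 → u ∈ K) := by
  have hsub : (N : Set (Equiv.Perm GolayPt)) ⊆ SY := by
    intro g hg
    obtain ⟨h1, h2, h3⟩ := mem_G0.1 (hK (hN hg))
    exact ⟨h1, h2, h3, hnorm g hg⟩
  have hfin : SY.Finite := Set.toFinite _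
  have hc : Nat.card N = (N : Set (Equiv.Perm GolayPt)).ncard := Nat.card_coe_set_eq _
  have hle := Set.ncard_le_ncard hsub hfin
  refine ⟨by rw [hc]; exact hle.trans ncard_SY_le, fun h20 => ?_⟩
  have heq : (N : Set (Equiv.Perm GolayPt)) = SY :=
    Set.eq_of_subset_of_ncard_le hsub (by rw [← hc, h20]; exact ncard_SY_le) hfin
  have : u ∈ (N : Set (Equiv.Perm GolayPt)) := by rw [heq]; exact u_mem_SY
  exact hN this

theorem card_ne_2112 (K : Subgroup (Equiv.Perm GolayPt)) (hK : K ≤ G0) (hx : x ∈ K) : Nat.card K ≠ 2112 := by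
  intro hcard
  have : Fact (Nat.Prime 11) := ⟨by norm_num⟩
  obtain ⟨N, n, hNK, hnorm, hmul, hmod, hdvd⟩ :=
    exists_normalizer_count K x hx 11 orderOf_x (by rw [hcard]; norm_num)
  obtain ⟨hle, -⟩ := card_le_of_SX K N hK hNK hnorm
  obtain ⟨c, hc⟩ := hdvd
  rw [hcard, hc] at hmul
  rw [hc] at hle
  have hmod' : n % 11 = 1 := hmod
  have hc5 : c ≤ 5 := by omega
  interval_cases c <;> omega

theorem card_ne_7920 (K : Subgroup (Equiv.Perm GolayPt)) (hK : K ≤ G0) (hx : x ∈ K) : Nat.card K ≠ 7920 := by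
  intro hcard
  have hy : y ∈ K := by
    have : Fact (Nat.Prime 11) := ⟨by norm_num⟩
    obtain ⟨N, n, hNK, hnorm, hmul, hmod, hdvd⟩ :=
      exists_normalizer_count K x hx 11 orderOf_x (by rw [hcard]; norm_num)
    obtain ⟨hle, h55⟩ := card_le_of_SX K N hK hNK hnorm
    apply h55
    obtain ⟨c, hc⟩ := hdvd
    rw [hcard, hc] at hmul
    rw [hc] at hle ⊢
    have hmod' : n % 11 = 1 := hmod
    have hc5 : c ≤ 5 := by omega
    interval_cases c <;> omega
  have hu : u ∈ K := by
    have : Fact (Nat.Prime 5) := ⟨by norm_num⟩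
    obtain ⟨N, n, hNK, hnorm, hmul, hmod, hdvd⟩ :=
      exists_normalizer_count K y hy 5 orderOf_y (by rw [hcard]; norm_num)
    obtain ⟨hle, h20⟩ := card_le_of_SY K N hK hNK hnorm
    apply h20
    obtain ⟨c, hc⟩ := hdvd
    rw [hcard, hc] at hmul
    rw [hc] at hle ⊢
    have hmod' : n % 5 = 1 := hmod
    have hc4 : c ≤ 4 := by omega
    interval_cases c <;> omega
  have hxu : x * u ∈ K := K.mul_mem hx hu
  have h7 : orderOf (⟨x * u, hxu⟩ : K) = 7 := by
    rw [Subgroup.orderOf_mk]; exact orderOf_xu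
  have := orderOf_dvd_natCard (⟨x * u, hxu⟩ : K)
  rw [h7, hcard] at this
  omega

/-- conjugation by an element maps subgroups of the stabiliser of `p`, `q` to subgroups of the stabiliser of the
images -/
theorem map_conj_le {σ : Equiv.Perm GolayPt} (hσ : σ ∈ M24) {p q p' q' : GolayPt} (hp : σ p = p') (hq : σ q = q')
    {K : Subgroup (Equiv.Perm GolayPt)} (hK : K ≤ fixL M24 [p, q]) :
    K.map (MulAut.conj σ).toMonoidHom ≤ fixL M24 [p', q'] := by
  rintro _ ⟨g, hg, rfl⟩
  obtain ⟨h1, h2⟩ := mem_fixL.1 (hK hg)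
  have hgp : g p = p := h2 p (by simp)
  have hgq : g q = q := h2 q (by simp)
  rw [mem_fixL]
  refine ⟨?_, ?_⟩
  · show σ * g * σ⁻¹ ∈ M24
    exact M24.mul_mem (M24.mul_mem hσ h1) (M24.inv_mem hσ)
  · intro r hr
    show (σ * g * σ⁻¹) r = r
    simp only [List.mem_cons, List.not_mem_nil, or_false] at hr
    rcases hr with rfl | rfl
    · rw [← hp]; simp [hgp]
    · rw [← hq]; simp [hgq]

theorem card_map_conj (σ : Equiv.Perm GolayPt) (K : Subgroup (Equiv.Perm GolayPt)) :
    Nat.card (K.map (MulAut.conj σ).toMonoidHom) = Nat.card K :=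
  Subgroup.card_map_of_injective (MulAut.conj σ).injective

/-- **the stabiliser of two points has no subgroup of order 2112 or 7920** -/
theorem card_ne_of_le_fixL {p q : GolayPt} (hpq : p ≠ q) (K : Subgroup (Equiv.Perm GolayPt))
    (hK : K ≤ fixL M24 [p, q]) : Nat.card K ≠ 2112 ∧ Nat.card K ≠ 7920 := by
  by_contra hcon
  have hcard : Nat.card K = 2112 ∨ Nat.card K = 7920 := by
    by_contra h
    exact hcon ⟨fun h1 => h (Or.inl h1), fun h2 => h (Or.inr h2)⟩
  -- move the two points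
  let e1 : Fin 2 ↪ GolayPt := ⟨![p, q], by
    intro i j h; fin_cases i <;> fin_cases j <;> simp_all⟩
  let e2 : Fin 2 ↪ GolayPt := ⟨![pt 0, pt 23], by
    intro i j h; fin_cases i <;> fin_cases j <;> first | rfl | (exfalso; revert h; decide)⟩
  obtain ⟨σ, hσ, hσe⟩ := exists_M24_map (by norm_num) e1 e2
  have hσp : σ p = pt 0 := hσe 0
  have hσq : σ q = pt 23 := hσe 1
  set K1 := K.map (MulAut.conj σ).toMonoidHom with hK1
  have hK1le : K1 ≤ G0 := map_conj_le hσ hσp hσq hK
  have hK1card : Nat.card K1 = Nat.card K := card_map_conj σ K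
  -- an element of order 11
  have : Fact (Nat.Prime 11) := ⟨by norm_num⟩
  have h11 : 11 ∣ Nat.card K1 := by
    rw [hK1card]
    rcases hcard with h | h <;> rw [h] <;> norm_num
  obtain ⟨x', hx'⟩ := exists_prime_orderOf_dvd_card' 11 h11
  have hx'o : orderOf (x' : Equiv.Perm GolayPt) = 11 := by rw [Subgroup.orderOf_coe]; exact hx'
  obtain ⟨t, ht, htx⟩ := exists_conj_zpowers G0 11 (by rw [card_G0]; norm_num) (x' : Equiv.Perm GolayPt) x
    (hK1le x'.2) x_mem_G0 hx'o orderOf_x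
  set K2 := K1.map (MulAut.conj t).toMonoidHom with hK2
  have hK2card : Nat.card K2 = Nat.card K := (card_map_conj t K1).trans hK1card
  have hK2le : K2 ≤ G0 := by
    rintro _ ⟨g, hg, rfl⟩
    show t * g * t⁻¹ ∈ G0
    exact G0.mul_mem (G0.mul_mem ht (hK1le hg)) (G0.inv_mem ht)
  have hx2 : t * (x' : Equiv.Perm GolayPt) * t⁻¹ ∈ K2 := ⟨x', x'.2, rfl⟩
  have ho2 : orderOf (t * (x' : Equiv.Perm GolayPt) * t⁻¹) = 11 := by
    have := MulEquiv.orderOf_eq (MulAut.conj t) (x' : Equiv.Perm GolayPt)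
    rw [MulAut.conj_apply] at this
    rw [this, hx'o]
  have hzp : Subgroup.zpowers (t * (x' : Equiv.Perm GolayPt) * t⁻¹) = Subgroup.zpowers x := by
    apply Subgroup.eq_of_le_of_card_ge
    · rw [Subgroup.zpowers_le]; exact htx
    · rw [Nat.card_zpowers, Nat.card_zpowers, ho2, orderOf_x]
  have hxK2 : x ∈ K2 := by
    have h1 : x ∈ Subgroup.zpowers (t * (x' : Equiv.Perm GolayPt) * t⁻¹) := by
      rw [hzp]; exact Subgroup.mem_zpowers x
    exact (Subgroup.zpowers_le.2 hx2) h1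
  rcases hcard with h | h
  · exact card_ne_2112 K2 hK2le hxK2 (hK2card.trans h)
  · exact card_ne_7920 K2 hK2le hxK2 (hK2card.trans h)

end Cfsg.Agent.Lib.Helper8.M22Idx
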