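import Cfsg.Agent.Lib.Helper8.M22Idx.Enc

/-!
# The normaliser of an element of order 11 in the stabiliser of two points of `M24`

`x` is the map `t ↦ 2 t` of the projective line, of order 11, fixing the points `0` and `∞`.  An element `g` of `M24`
fixing these two points with `g x = x ^ k g` is determined by `k` and the images of the points `1` and `5` (one in each
cycle of `x`); of the `10 * 24 * 24` candidate maps exactly 55 map the twelve basis words into the code.
-/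

set_option autoImplicit false

namespace Cfsg.Agent.Lib.Helper8.M22Idx

open Cfsg Cfsg.Agent.Lib.Helper6.Golay

/-- the element of order 11 -/
def xl : List ℕ := [0, 2, 4, 6, 8, 10, 12, 14, 16, 18, 20, 22, 1, 3, 5, 7, 9, 11, 13, 15, 17, 19, 21, 23]

def xil : List ℕ := [0, 12, 1, 13, 2, 14, 3, 15, 4, 16, 5, 17, 6, 18, 7, 19, 8, 20, 9, 21, 10, 22, 11, 23]

/-- the element of order 5 normalising it -/
def yl : List ℕ := [0, 1, 8, 4, 18, 5, 9, 22, 6, 16, 17, 10, 3, 12, 15, 20, 2, 7, 13, 14, 21, 19, 11, 23]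

def yil : List ℕ := [0, 1, 16, 12, 3, 5, 8, 17, 2, 6, 11, 22, 13, 18, 19, 14, 9, 10, 4, 21, 15, 20, 7, 23]

/-- the powers of `x` -/
def xpowL : List (List ℕ) := [[0, 1, 2, 3, 4, 5, 6, 7, 8, 9, 10, 11, 12, 13, 14, 15, 16, 17, 18, 19, 20, 21, 22, 23],
  [0, 2, 4, 6, 8, 10, 12, 14, 16, 18, 20, 22, 1, 3, 5, 7, 9, 11, 13, 15, 17, 19, 21, 23],
  [0, 4, 8, 12, 16, 20, 1, 5, 9, 13, 17, 21, 2, 6, 10, 14, 18, 22, 3, 7, 11, 15, 19, 23],
  [0, 8, 16, 1, 9, 17, 2, 10, 18, 3, 11, 19, 4, 12, 20, 5, 13, 21, 6, 14, 22, 7, 15, 23],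
  [0, 16, 9, 2, 18, 11, 4, 20, 13, 6, 22, 15, 8, 1, 17, 10, 3, 19, 12, 5, 21, 14, 7, 23],
  [0, 9, 18, 4, 13, 22, 8, 17, 3, 12, 21, 7, 16, 2, 11, 20, 6, 15, 1, 10, 19, 5, 14, 23],
  [0, 18, 13, 8, 3, 21, 16, 11, 6, 1, 19, 14, 9, 4, 22, 17, 12, 7, 2, 20, 15, 10, 5, 23],
  [0, 13, 3, 16, 6, 19, 9, 22, 12, 2, 15, 5, 18, 8, 21, 11, 1, 14, 4, 17, 7, 20, 10, 23],
  [0, 3, 6, 9, 12, 15, 18, 21, 1, 4, 7, 10, 13, 16, 19, 22, 2, 5, 8, 11, 14, 17, 20, 23],
  [0, 6, 12, 18, 1, 7, 13, 19, 2, 8, 14, 20, 3, 9, 15, 21, 4, 10, 16, 22, 5, 11, 17, 23],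
  [0, 12, 1, 13, 2, 14, 3, 15, 4, 16, 5, 17, 6, 18, 7, 19, 8, 20, 9, 21, 10, 22, 11, 23]]

/-- the point `i` is `x ^ (jxL i)` applied to the representative of its cycle -/
def jxL : List ℕ := [0, 0, 1, 8, 2, 0, 9, 9, 3, 5, 1, 4, 10, 7, 10, 8, 4, 3, 6, 7, 2, 6, 5, 0]

/-- the cycle of the point: 0 for the cycle of `1`, 1 for the cycle of `5` -/
def cxL : List ℕ := [0, 0, 0, 0, 0, 1, 0, 1, 0, 0, 1, 1, 0, 0, 1, 1, 0, 1, 0, 1, 1, 1, 1, 0]

/-- the candidates which map the basis words into the code -/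
def goodX : List (ℕ × ℕ × ℕ) := [(1, 1, 5), (1, 2, 10), (1, 3, 15), (1, 4, 20), (1, 6, 7), (1, 8, 17), (1, 9, 22), (1, 12, 14), (1, 13, 19), (1, 16, 11), (1, 18, 21), (3, 1, 5), (3, 2, 10), (3, 3, 15), (3, 4, 20), (3, 6, 7), (3, 8, 17), (3, 9, 22), (3, 12, 14), (3, 13, 19), (3, 16, 11), (3, 18, 21), (4, 1, 5), (4, 2, 10), (4, 3, 15), (4, 4, 20), (4, 6, 7), (4, 8, 17), (4, 9, 22), (4, 12, 14), (4, 13, 19), (4, 16, 11), (4, 18, 21), (5, 1, 5), (5, 2, 10), (5, 3, 15), (5, 4, 20), (5, 6, 7), (5, 8, 17), (5, 9, 22), (5, 12, 14), (5, 13, 19), (5, 16, 11), (5, 18, 21), (9, 1, 5), (9, 2, 10), (9, 3, 15), (9, 4, 20), (9, 6, 7), (9, 8, 17), (9, 9, 22), (9, 12, 14), (9, 13, 19), (9, 16, 11), (9, 18, 21)]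

def x : Equiv.Perm GolayPt where
  toFun := lfun xl
  invFun := lfun xil
  left_inv := by intro p; revert p; decide
  right_inv := by intro p; revert p; decide

def y : Equiv.Perm GolayPt where
  toFun := lfun yl
  invFun := lfun yil
  left_inv := by intro p; revert p; decide
  right_inv := by intro p; revert p; decide

theorem x_coe : ⇑x = lfun xl := rfl
theorem y_coe : ⇑y = lfun yl := rfl

theorem x_mem : x ∈ M24 := mem_M24_of_basisTest (l := xl) (by decide) x_coe (by decide +kernel)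
theorem y_mem : y ∈ M24 := mem_M24_of_basisTest (l := yl) (by decide) y_coe (by decide +kernel)

theorem x_pow_eleven : x ^ 11 = 1 := by
  apply Equiv.ext
  intro p; revert p; decide

theorem x_ne_one : x ≠ 1 := by
  intro h
  have := congrFun (congrArg (fun g : Equiv.Perm GolayPt => ⇑g) h) (pt 1)
  revert this; decide

theorem orderOf_x : orderOf x = 11 :=
  haveI : Fact (Nat.Prime 11) := ⟨by norm_num⟩
  orderOf_eq_prime x_pow_eleven x_ne_one

theorem x_fix0 : x (pt 0) = pt 0 := by decide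
theorem x_fix23 : x (pt 23) = pt 23 := by decide
theorem y_fix0 : y (pt 0) = pt 0 := by decide
theorem y_fix23 : y (pt 23) = pt 23 := by decide

/-- the table of the powers of `x` -/
theorem xpow_tab : ∀ (m : Fin 11) (v : Fin 24),
    idx ((x ^ (m : ℕ)) (pt v)) = (xpowL.getD m []).getD v 0 := by decide

/-- every point other than `0` and `∞` is a power of `x` applied to `1` or to `5` -/
theorem x_decomp : ∀ i : Fin 24, (i : ℕ) ≠ 0 → (i : ℕ) ≠ 23 →
    pt i = (x ^ (jxL.getD i 0)) (pt (if cxL.getD i 0 = 1 then 5 else 1)) := by decide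

/-- the candidate map -/
def candFx (k va vb : ℕ) (i : ℕ) : ℕ :=
  if i = 0 then 0 else if i = 23 then 23 else
    (xpowL.getD ((k * jxL.getD i 0) % 11) []).getD (if cxL.getD i 0 = 1 then vb else va) 0

theorem enc_eq_candFx {g : Equiv.Perm GolayPt} {k : ℕ} (h0 : g (pt 0) = pt 0) (h23 : g (pt 23) = pt 23)
    (hk : g * x = x ^ k * g) :
    ∀ i < 24, (enc g).getD i 0 = candFx k ((enc g).getD 1 0) ((enc g).getD 5 0) i := by
  intro i hi
  rw [enc_getD g hi, enc_getD g (by norm_num : 1 < 24), enc_getD g (by norm_num : 5 < 24), candFx]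
  by_cases hi0 : i = 0
  · subst hi0
    rw [if_pos rfl, h0]; decide
  rw [if_neg hi0]
  by_cases hi23 : i = 23
  · subst hi23
    rw [if_pos rfl, h23]; decide
  rw [if_neg hi23]
  have hd := x_decomp ⟨i, hi⟩ hi0 hi23
  simp only [] at hd
  have key : ∀ r : ℕ, r < 24 → pt i = (x ^ (jxL.getD i 0)) (pt r) →
      idx (g (pt i)) = (xpowL.getD ((k * jxL.getD i 0) % 11) []).getD (idx (g (pt r))) 0 := by
    intro r hr hpr
    have h1 : g (pt i) = (x ^ ((k * jxL.getD i 0) % 11)) (g (pt r)) := by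
      rw [hpr, ← Equiv.Perm.mul_apply, comm_pow hk, Equiv.Perm.mul_apply, ← pow_mul,
        pow_eq_pow_mod _ x_pow_eleven]
    have h2 := xpow_tab ⟨(k * jxL.getD i 0) % 11, Nat.mod_lt _ (by norm_num)⟩ ⟨idx (g (pt r)), idx_lt _⟩
    simp only [] at h2
    rw [pt_idx] at h2
    rw [h1, h2]
  by_cases hc : cxL.getD i 0 = 1
  · rw [if_pos hc] at hd ⊢
    exact key 5 (by norm_num) hd
  · rw [if_neg hc] at hd ⊢
    exact key 1 (by norm_num) hd

/-- the search over the candidates -/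
def searchX : Bool :=
  (List.range 11).all fun k => k == 0 || (List.range 24).all fun va => (List.range 24).all fun vb =>
    !(basis.all fun b => inCode (fmask (candFx k va vb) b)) || goodX.contains (k, va, vb)

theorem searchX_ok : searchX = true := by decide +kernel

/-- the encodings of the 55 elements -/
def LX : List (List ℕ) := goodX.map fun t => (List.range 24).map (candFx t.1 t.2.1 t.2.2)

theorem enc_mem_LX {g : Equiv.Perm GolayPt} (hg : g ∈ M24) (h0 : g (pt 0) = pt 0) (h23 : g (pt 23) = pt 23)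
    {k : ℕ} (hk1 : 0 < k) (hk2 : k < 11) (hk : g * x = x ^ k * g) : enc g ∈ LX := by
  set va := (enc g).getD 1 0 with hva
  set vb := (enc g).getD 5 0 with hvb
  have hdet := enc_eq_candFx h0 h23 hk
  have hva24 : va < 24 := by rw [hva, enc_getD g (by norm_num)]; exact idx_lt _
  have hvb24 : vb < 24 := by rw [hvb, enc_getD g (by norm_num)]; exact idx_lt _
  have htest : (basis.all fun b => inCode (fmask (candFx k va vb) b)) = true := by
    rw [List.all_eq_true]
    intro b hb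
    have h1 := inCode_lmask_enc hg (inCode_basis hb)
    rw [lmask_eq_fmask] at h1
    rw [← fmask_congr (f := fun i => (enc g).getD i 0) (f' := candFx k va vb) (fun i hi _ => hdet i hi)]
    exact h1
  have hs := searchX_ok
  rw [searchX, List.all_eq_true] at hs
  have h1 := hs k (List.mem_range.2 hk2)
  rw [Bool.or_eq_true] at h1
  rcases h1 with h1 | h1
  · exfalso
    rw [beq_iff_eq] at h1
    omega
  rw [List.all_eq_true] at h1
  have h2 := h1 va (List.mem_range.2 hva24)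
  rw [List.all_eq_true] at h2
  have h3 := h2 vb (List.mem_range.2 hvb24)
  rw [htest, Bool.not_true, Bool.false_or] at h3
  have h4 : (k, va, vb) ∈ goodX := List.contains_iff_mem.1 h3
  have h5 : enc g = (List.range 24).map (candFx k va vb) := by
    rw [enc]
    apply List.map_congr_left
    intro i hi
    rw [List.mem_range] at hi
    rw [← enc_getD g hi]
    exact hdet i hi
  rw [h5, LX, List.mem_map]
  exact ⟨(k, va, vb), h4, rfl⟩

/-- the elements of `M24` fixing `0` and `∞` and normalising `⟨x⟩` -/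
def SX : Set (Equiv.Perm GolayPt) :=
  {g | g ∈ M24 ∧ g (pt 0) = pt 0 ∧ g (pt 23) = pt 23 ∧ g * x * g⁻¹ ∈ Subgroup.zpowers x}

theorem ncard_SX_le : SX.ncard ≤ 55 := by
  have h1 : ∀ g ∈ SX, enc g ∈ (↑LX.toFinset : Set (List ℕ)) := by
    rintro g ⟨hg, h0, h23, hn⟩
    obtain ⟨k, hk1, hk2, hk⟩ := exists_exponent (by norm_num : 1 < 11) orderOf_x hn
    rw [Finset.mem_coe, List.mem_toFinset]
    exact enc_mem_LX hg h0 h23 hk1 hk2 hk
  have h2 := Set.ncard_le_ncard_of_injOn enc h1 (enc_injective.injOn) (Finset.finite_toSet _)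
  rw [Set.ncard_coe_finset] at h2
  exact h2.trans ((List.toFinset_card_le LX).trans (by rw [LX, List.length_map]; decide))

theorem y_mem_SX : y ∈ SX := by
  refine ⟨y_mem, y_fix0, y_fix23, ?_⟩
  have h : y * x * y⁻¹ = x ^ 3 := by
    rw [mul_inv_eq_iff_eq_mul]
    apply Equiv.ext
    intro p; revert p; decide
  rw [h]
  exact Subgroup.pow_mem _ (Subgroup.mem_zpowers x) 3

end Cfsg.Agent.Lib.Helper8.M22Idx
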