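import Cfsg.Agent.Lib.Helper8.M22Idx.NormX

/-!
# The normaliser of an element of order 5 in the stabiliser of two points of `M24`

`y` has order 5, fixes the points `0`, `1`, `5`, `∞` and has four cycles of length five.  An element `g` of `M24` fixing
`0` and `∞` with `g y = y ^ k g` is determined by `k` and the images of `1`, `5`, `2`, `3`, `7`, `14`; the candidates are
searched in stages, using the four octads made of a cycle of `y` and three fixed points; exactly 20 of them map the twelve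
basis words into the code.
-/

set_option autoImplicit false

namespace Cfsg.Agent.Lib.Helper8.M22Idx

open Cfsg Cfsg.Agent.Lib.Helper6.Golay

/-- the element of order 4 normalising `⟨y⟩` -/
def ul : List ℕ := [0, 5, 2, 17, 22, 1, 16, 18, 6, 8, 13, 4, 11, 7, 14, 20, 9, 3, 10, 21, 19, 15, 12, 23]

def uil : List ℕ := [0, 5, 2, 17, 11, 1, 8, 13, 9, 16, 18, 12, 22, 10, 14, 21, 6, 3, 7, 20, 15, 19, 4, 23]

/-- the powers of `y` -/
def ypowL : List (List ℕ) := [[0, 1, 2, 3, 4, 5, 6, 7, 8, 9, 10, 11, 12, 13, 14, 15, 16, 17, 18, 19, 20, 21, 22, 23],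
  [0, 1, 8, 4, 18, 5, 9, 22, 6, 16, 17, 10, 3, 12, 15, 20, 2, 7, 13, 14, 21, 19, 11, 23],
  [0, 1, 6, 18, 13, 5, 16, 11, 9, 2, 7, 17, 4, 3, 20, 21, 8, 22, 12, 15, 19, 14, 10, 23],
  [0, 1, 9, 13, 12, 5, 2, 10, 16, 8, 22, 7, 18, 4, 21, 19, 6, 11, 3, 20, 14, 15, 17, 23],
  [0, 1, 16, 12, 3, 5, 8, 17, 2, 6, 11, 22, 13, 18, 19, 14, 9, 10, 4, 21, 15, 20, 7, 23]]

/-- the point `i` is `y ^ (jyL i)` applied to the representative of its cycle -/
def jyL : List ℕ := [0, 0, 0, 0, 1, 0, 2, 0, 1, 3, 3, 2, 4, 3, 0, 1, 4, 4, 2, 4, 2, 3, 1, 0]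

/-- the cycle of the point: the cycles of `2`, `3`, `7`, `14` are numbered 0, 1, 2, 3 -/
def cyL : List ℕ := [0, 0, 0, 1, 1, 0, 0, 2, 0, 0, 2, 2, 1, 1, 3, 3, 0, 2, 1, 3, 3, 3, 2, 0]

/-- the four octads made of a cycle of `y` and three of its fixed points -/
def O1 : ℕ := 8455014
def O2 : ℕ := 8663097
def O3 : ℕ := 12717187
def O4 : ℕ := 3719203

/-- the candidates which map the basis words into the code -/
def goodY : List (ℕ × ℕ × ℕ × ℕ × ℕ × ℕ × ℕ) := [(1, 1, 5, 2, 3, 7, 14), (1, 1, 5, 6, 18, 11, 20), (1, 1, 5, 8, 4, 22, 15), (1, 1, 5, 9, 13, 10, 21), (1, 1, 5, 16, 12, 17, 19), (2, 5, 1, 2, 17, 18, 14), (2, 5, 1, 6, 22, 12, 20), (2, 5, 1, 8, 7, 13, 15), (2, 5, 1, 9, 11, 3, 21), (2, 5, 1, 16, 10, 4, 19), (3, 5, 1, 2, 17, 13, 14), (3, 5, 1, 6, 22, 3, 20), (3, 5, 1, 8, 7, 12, 15), (3, 5, 1, 9, 11, 4, 21), (3, 5, 1, 16, 10, 18, 19), (4, 1, 5, 2, 3, 10, 14), (4, 1, 5, 6, 18, 7, 20), (4, 1, 5, 8, 4, 17, 15), (4, 1, 5, 9, 13, 22, 21), (4, 1, 5, 16,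 12, 11, 19)]

def u : Equiv.Perm GolayPt where
  toFun := lfun ul
  invFun := lfun uil
  left_inv := by intro p; revert p; decide
  right_inv := by intro p; revert p; decide

theorem u_coe : ⇑u = lfun ul := rfl

theorem u_mem : u ∈ M24 := mem_M24_of_basisTest (l := ul) (by decide) u_coe (by decide +kernel)

theorem y_pow_five : y ^ 5 = 1 := by
  apply Equiv.ext
  intro p; revert p; decide

theorem y_ne_one : y ≠ 1 := by
  intro h
  have := congrFun (congrArg (fun g : Equiv.Perm GolayPt => ⇑g) h) (pt 2)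
  revert this; decide

theorem orderOf_y : orderOf y = 5 :=
  haveI : Fact (Nat.Prime 5) := ⟨by norm_num⟩
  orderOf_eq_prime y_pow_five y_ne_one

theorem u_fix0 : u (pt 0) = pt 0 := by decide
theorem u_fix23 : u (pt 23) = pt 23 := by decide

/-- the table of the powers of `y` -/
theorem ypow_tab : ∀ (m : Fin 5) (v : Fin 24),
    idx ((y ^ (m : ℕ)) (pt v)) = (ypowL.getD m []).getD v 0 := by decide

/-- the representatives of the cycles -/
def repY (c : ℕ) : ℕ := [2, 3, 7, 14].getD c 0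

/-- every point not fixed by `y` is a power of `y` applied to the representative of its cycle -/
theorem y_decomp : ∀ i : Fin 24, (i : ℕ) ≠ 0 → (i : ℕ) ≠ 23 → (i : ℕ) ≠ 1 → (i : ℕ) ≠ 5 →
    pt i = (y ^ (jyL.getD i 0)) (pt (repY (cyL.getD i 0))) := by decide

theorem cyL_lt : ∀ i : Fin 24, cyL.getD i 0 < 4 := by decide

/-- the image of the representative of a cycle -/
def selY (c v2 v3 v7 v14 : ℕ) : ℕ := if c = 0 then v2 else if c = 1 then v3 else if c = 2 then v7 else v14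

/-- the candidate map -/
def candFy (k v1 v5 v2 v3 v7 v14 : ℕ) (i : ℕ) : ℕ :=
  if i = 0 then 0 else if i = 23 then 23 else if i = 1 then v1 else if i = 5 then v5 else
    (ypowL.getD ((k * jyL.getD i 0) % 5) []).getD (selY (cyL.getD i 0) v2 v3 v7 v14) 0

theorem enc_eq_candFy {g : Equiv.Perm GolayPt} {k : ℕ} (h0 : g (pt 0) = pt 0) (h23 : g (pt 23) = pt 23)
    (hk : g * y = y ^ k * g) :
    ∀ i < 24, (enc g).getD i 0 = candFy k ((enc g).getD 1 0) ((enc g).getD 5 0) ((enc g).getD 2 0)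
      ((enc g).getD 3 0) ((enc g).getD 7 0) ((enc g).getD 14 0) i := by
  intro i hi
  rw [candFy]
  by_cases hi0 : i = 0
  · subst hi0
    rw [if_pos rfl, enc_getD g hi, h0]; decide
  rw [if_neg hi0]
  by_cases hi23 : i = 23
  · subst hi23
    rw [if_pos rfl, enc_getD g hi, h23]; decide
  rw [if_neg hi23]
  by_cases hi1 : i = 1
  · subst hi1
    rw [if_pos rfl]
  rw [if_neg hi1]
  by_cases hi5 : i = 5
  · subst hi5
    rw [if_pos rfl]
  rw [if_neg hi5]
  have hd := y_decomp ⟨i, hi⟩ hi0 hi23 hi1 hi5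
  simp only [] at hd
  have hc4 := cyL_lt ⟨i, hi⟩
  simp only [] at hc4
  have key : ∀ r : ℕ, r < 24 → pt i = (y ^ (jyL.getD i 0)) (pt r) →
      (enc g).getD i 0 = (ypowL.getD ((k * jyL.getD i 0) % 5) []).getD ((enc g).getD r 0) 0 := by
    intro r hr hpr
    rw [enc_getD g hi, enc_getD g hr]
    have h1 : g (pt i) = (y ^ ((k * jyL.getD i 0) % 5)) (g (pt r)) := by
      rw [hpr, ← Equiv.Perm.mul_apply, comm_pow hk, Equiv.Perm.mul_apply, ← pow_mul,
        pow_eq_pow_mod _ y_pow_five]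
    have h2 := ypow_tab ⟨(k * jyL.getD i 0) % 5, Nat.mod_lt _ (by norm_num)⟩ ⟨idx (g (pt r)), idx_lt _⟩
    simp only [] at h2
    rw [pt_idx] at h2
    rw [h1, h2]
  have hc : cyL.getD i 0 = 0 ∨ cyL.getD i 0 = 1 ∨ cyL.getD i 0 = 2 ∨ cyL.getD i 0 = 3 := by omega
  rcases hc with hc | hc | hc | hc
  · rw [hc] at hd ⊢
    exact key 2 (by norm_num) hd
  · rw [hc] at hd ⊢
    exact key 3 (by norm_num) hd
  · rw [hc] at hd ⊢
    exact key 7 (by norm_num) hd
  · rw [hc] at hd ⊢
    exact key 14 (by norm_num) hd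

/-- an octad meeting three of the cycles -/
def E1 : ℕ := 12656663

/-- the search over the candidates, in stages -/
def searchY : Bool :=
  [1, 2, 3, 4].all fun k => [(1, 5), (5, 1)].all fun w =>
    (List.range 24).all fun v2 => !(inCode (fmask (candFy k w.1 w.2 v2 0 0 0) O1)) ||
    (List.range 24).all fun v3 => !(inCode (fmask (candFy k w.1 w.2 v2 v3 0 0) O2)) ||
    (List.range 24).all fun v7 => !(inCode (fmask (candFy k w.1 w.2 v2 v3 v7 0) O3) &&
        inCode (fmask (candFy k w.1 w.2 v2 v3 v7 0) E1)) ||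
    (List.range 24).all fun v14 =>
      !(basis.all fun b => inCode (fmask (candFy k w.1 w.2 v2 v3 v7 v14) b)) ||
      goodY.contains (k, w.1, w.2, v2, v3, v7, v14)

theorem searchY_ok : searchY = true := by decide +kernel

theorem O_inCode : inCode O1 = true ∧ inCode O2 = true ∧ inCode O3 = true ∧ inCode E1 = true := by
  decide +kernel

theorem stage1 (k v1 v5 v2 v3 v7 v14 : ℕ) :
    fmask (candFy k v1 v5 v2 v3 v7 v14) O1 = fmask (candFy k v1 v5 v2 0 0 0) O1 := by
  apply fmask_congr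
  intro i hi hb
  interval_cases i <;> first | rfl | exact absurd hb (by decide)

theorem stage2 (k v1 v5 v2 v3 v7 v14 : ℕ) :
    fmask (candFy k v1 v5 v2 v3 v7 v14) O2 = fmask (candFy k v1 v5 v2 v3 0 0) O2 := by
  apply fmask_congr
  intro i hi hb
  interval_cases i <;> first | rfl | exact absurd hb (by decide)

theorem stage3 (k v1 v5 v2 v3 v7 v14 : ℕ) :
    fmask (candFy k v1 v5 v2 v3 v7 v14) O3 = fmask (candFy k v1 v5 v2 v3 v7 0) O3 := by
  apply fmask_congr
  intro i hi hb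
  interval_cases i <;> first | rfl | exact absurd hb (by decide)

theorem stage3' (k v1 v5 v2 v3 v7 v14 : ℕ) :
    fmask (candFy k v1 v5 v2 v3 v7 v14) E1 = fmask (candFy k v1 v5 v2 v3 v7 0) E1 := by
  apply fmask_congr
  intro i hi hb
  interval_cases i <;> first | rfl | exact absurd hb (by decide)

/-- the fixed points of the powers of `y` -/
theorem ypow_fixed : ∀ (k : Fin 5), (k : ℕ) ≠ 0 → ∀ p : GolayPt, (y ^ (k : ℕ)) p = p →
    p = pt 0 ∨ p = pt 23 ∨ p = pt 1 ∨ p = pt 5 := by decide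

theorem y_fix1 : y (pt 1) = pt 1 := by decide
theorem y_fix5 : y (pt 5) = pt 5 := by decide

/-- a normalising element permutes the fixed points `1` and `5` -/
theorem enc_one_five {g : Equiv.Perm GolayPt} (h0 : g (pt 0) = pt 0) (h23 : g (pt 23) = pt 23)
    {k : ℕ} (hk1 : 0 < k) (hk2 : k < 5) (hk : g * y = y ^ k * g) :
    ((enc g).getD 1 0, (enc g).getD 5 0) ∈ [(1, 5), (5, 1)] := by
  have hfix : ∀ q : GolayPt, y q = q → (y ^ k) (g q) = g q := by
    intro q hq
    rw [← Equiv.Perm.mul_apply, ← hk, Equiv.Perm.mul_apply, hq]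
  have hcases : ∀ q : GolayPt, y q = q → q ≠ pt 0 → q ≠ pt 23 → g q = pt 1 ∨ g q = pt 5 := by
    intro q hq hq0 hq23
    have h1 := ypow_fixed ⟨k, hk2⟩ (by simpa using hk1.ne') (g q) (hfix q hq)
    rcases h1 with h1 | h1 | h1 | h1
    · exact absurd (g.injective (h1.trans h0.symm)) hq0
    · exact absurd (g.injective (h1.trans h23.symm)) hq23
    · exact Or.inl h1
    · exact Or.inr h1
  have h1 := hcases (pt 1) y_fix1 (by decide) (by decide)
  have h5 := hcases (pt 5) y_fix5 (by decide) (by decide)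
  have hne : g (pt 1) ≠ g (pt 5) := fun h => absurd (g.injective h) (by decide)
  rw [enc_getD g (by norm_num : 1 < 24), enc_getD g (by norm_num : 5 < 24)]
  rcases h1 with h1 | h1 <;> rcases h5 with h5 | h5
  · exact absurd (h1.trans h5.symm) hne
  · rw [h1, h5]; decide
  · rw [h1, h5]; decide
  · exact absurd (h1.trans h5.symm) hne

/-- the encodings of the 20 elements -/
def LY : List (List ℕ) :=
  goodY.map fun t => (List.range 24).map (candFy t.1 t.2.1 t.2.2.1 t.2.2.2.1 t.2.2.2.2.1 t.2.2.2.2.2.1 t.2.2.2.2.2.2)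

theorem enc_mem_LY {g : Equiv.Perm GolayPt} (hg : g ∈ M24) (h0 : g (pt 0) = pt 0) (h23 : g (pt 23) = pt 23)
    {k : ℕ} (hk1 : 0 < k) (hk2 : k < 5) (hk : g * y = y ^ k * g) : enc g ∈ LY := by
  set v1 := (enc g).getD 1 0 with hv1
  set v5 := (enc g).getD 5 0 with hv5
  set v2 := (enc g).getD 2 0 with hv2
  set v3 := (enc g).getD 3 0 with hv3
  set v7 := (enc g).getD 7 0 with hv7
  set v14 := (enc g).getD 14 0 with hv14
  have hdet := enc_eq_candFy h0 h23 hk
  have hw := enc_one_five h0 h23 hk1 hk2 hk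
  have hlt : ∀ j < 24, (enc g).getD j 0 < 24 := fun j hj => by rw [enc_getD g hj]; exact idx_lt _
  have hcode : ∀ n, inCode n = true → inCode (fmask (candFy k v1 v5 v2 v3 v7 v14) n) = true := by
    intro n hn
    have h1 := inCode_lmask_enc hg hn
    rw [lmask_eq_fmask] at h1
    rw [← fmask_congr (f := fun i => (enc g).getD i 0) (f' := candFy k v1 v5 v2 v3 v7 v14)
      (fun i hi _ => hdet i hi)]
    exact h1
  have htest : (basis.all fun b => inCode (fmask (candFy k v1 v5 v2 v3 v7 v14) b)) = true := by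
    rw [List.all_eq_true]
    intro b hb
    exact hcode b (inCode_basis hb)
  obtain ⟨hO1, hO2, hO3, hE1⟩ := O_inCode
  have hs := searchY_ok
  rw [searchY, List.all_eq_true] at hs
  have hkm : k ∈ [1, 2, 3, 4] := by
    have : k = 1 ∨ k = 2 ∨ k = 3 ∨ k = 4 := by omega
    rcases this with rfl | rfl | rfl | rfl <;> decide
  have h1 := hs k hkm
  rw [List.all_eq_true] at h1
  have h3 := h1 (v1, v5) hw
  simp only [] at h3
  rw [List.all_eq_true] at h3
  have h4 := h3 v2 (List.mem_range.2 (hlt 2 (by norm_num)))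
  rw [← stage1 k v1 v5 v2 v3 v7 v14, hcode O1 hO1, Bool.not_true, Bool.false_or, List.all_eq_true] at h4
  have h5 := h4 v3 (List.mem_range.2 (hlt 3 (by norm_num)))
  rw [← stage2 k v1 v5 v2 v3 v7 v14, hcode O2 hO2, Bool.not_true, Bool.false_or, List.all_eq_true] at h5
  have h6 := h5 v7 (List.mem_range.2 (hlt 7 (by norm_num)))
  rw [← stage3 k v1 v5 v2 v3 v7 v14, ← stage3' k v1 v5 v2 v3 v7 v14, hcode O3 hO3, hcode E1 hE1,
    Bool.and_self, Bool.not_true, Bool.false_or, List.all_eq_true] at h6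
  have h7 := h6 v14 (List.mem_range.2 (hlt 14 (by norm_num)))
  rw [htest, Bool.not_true, Bool.false_or] at h7
  have h8 : (k, v1, v5, v2, v3, v7, v14) ∈ goodY := List.contains_iff_mem.1 h7
  have h9 : enc g = (List.range 24).map (candFy k v1 v5 v2 v3 v7 v14) := by
    rw [enc]
    apply List.map_congr_left
    intro i hi
    rw [List.mem_range] at hi
    rw [← enc_getD g hi]
    exact hdet i hi
  rw [h9, LY, List.mem_map]
  exact ⟨(k, v1, v5, v2, v3, v7, v14), h8, rfl⟩

/-- the elements of `M24` fixing `0` and `∞` and normalising `⟨y⟩` -/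
def SY : Set (Equiv.Perm GolayPt) :=
  {g | g ∈ M24 ∧ g (pt 0) = pt 0 ∧ g (pt 23) = pt 23 ∧ g * y * g⁻¹ ∈ Subgroup.zpowers y}

theorem ncard_SY_le : SY.ncard ≤ 20 := by
  have h1 : ∀ g ∈ SY, enc g ∈ (↑LY.toFinset : Set (List ℕ)) := by
    rintro g ⟨hg, h0, h23, hn⟩
    obtain ⟨k, hk1, hk2, hk⟩ := exists_exponent (by norm_num : 1 < 5) orderOf_y hn
    rw [Finset.mem_coe, List.mem_toFinset]
    exact enc_mem_LY hg h0 h23 hk1 hk2 hk
  have h2 := Set.ncard_le_ncard_of_injOn enc h1 (enc_injective.injOn) (Finset.finite_toSet _)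
  rw [Set.ncard_coe_finset] at h2
  exact h2.trans ((List.toFinset_card_le LY).trans (by rw [LY, List.length_map]; decide))

theorem u_mem_SY : u ∈ SY := by
  refine ⟨u_mem, u_fix0, u_fix23, ?_⟩
  have h : u * y * u⁻¹ = y ^ 2 := by
    rw [mul_inv_eq_iff_eq_mul]
    apply Equiv.ext
    intro p; revert p; decide
  rw [h]
  exact Subgroup.pow_mem _ (Subgroup.mem_zpowers y) 2

/-- the product `x * u` has order 7 -/
theorem orderOf_xu : orderOf (x * u) = 7 := by
  have : Fact (Nat.Prime 7) := ⟨by norm_num⟩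
  apply orderOf_eq_prime
  · apply Equiv.ext
    intro p; revert p; decide
  · intro h
    have := congrFun (congrArg (fun g : Equiv.Perm GolayPt => ⇑g) h) (pt 1)
    revert this; decide

end Cfsg.Agent.Lib.Helper8.M22Idx
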